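import Mathlib.RingTheory.Localization.Integral
import Mathlib.RingTheory.IntegralClosure.IntegrallyClosed
import Mathlib.RingTheory.DiscreteValuationRing.TFAE
import Mathlib.RingTheory.Ideal.MinimalPrime.Localization
import Mathlib.RingTheory.Ideal.MinimalPrime.Noetherian
import Mathlib.RingTheory.KrullDimension.Basic
import Mathlib.RingTheory.KrullDimension.Field

/-!
# Local rings of relative normalizations at points of codimension one
-/

universe u

open scoped nonZeroDivisors

namespace GrothLib.NormDvr9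

variable {T B : Type u} [CommRing T] [CommRing B]

/-- Integral closedness in an algebra passes to localizations. -/
theorem exists_eq_of_isIntegral_localization {R : Type u} [CommRing R] [Algebra R B] {M : Submonoid R}
    {Bm : Type u} [CommRing Bm] [Algebra B Bm] [Algebra R Bm] [Algebra R T] [Algebra T Bm]
    [IsScalarTower R B Bm] [IsScalarTower R T Bm] [IsLocalization M T]
    [IsLocalization (Algebra.algebraMapSubmonoid B M) Bm]
    (hcl : ∀ b : B, IsIntegral R b → ∃ r, algebraMap R B r = b) {x : Bm} (hx : IsIntegral T x) :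
    ∃ y, algebraMap T Bm y = x := by
  obtain ⟨⟨b, _, m₁, hm₁, rfl⟩, e⟩ := IsLocalization.surj (Algebra.algebraMapSubmonoid B M) x
  obtain ⟨⟨m₂, hm₂⟩, h₂⟩ := IsIntegral.exists_multiple_integral_of_isLocalization M x hx
  rw [Submonoid.smul_def, Algebra.smul_def] at h₂
  obtain ⟨m₃, hm₃, h₃⟩ := IsLocalization.exists_isIntegral_smul_of_isIntegral_map (Sₘ := Bm) M
    (x := algebraMap R B m₂ * b) (by
      rw [map_mul, ← e, ← IsScalarTower.algebraMap_apply, ← mul_assoc, ← IsScalarTower.algebraMap_apply]
      exact h₂.mul isIntegral_algebraMap)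
  rw [Algebra.smul_def] at h₃
  obtain ⟨r, hr⟩ := hcl _ h₃
  have hm : m₃ * m₂ * m₁ ∈ M := mul_mem (mul_mem hm₃ hm₂) hm₁
  refine ⟨IsLocalization.mk' T r ⟨_, hm⟩, ?_⟩
  have h1 : algebraMap R Bm r = algebraMap R Bm (m₃ * m₂ * m₁) * x := by
    rw [IsScalarTower.algebraMap_apply R B Bm, hr, map_mul, map_mul, map_mul, map_mul, ← e,
      ← IsScalarTower.algebraMap_apply, ← IsScalarTower.algebraMap_apply, ← IsScalarTower.algebraMap_apply]
    ring
  refine ((IsLocalization.map_units T ⟨_, hm⟩).map (algebraMap T Bm)).mul_left_cancel ?_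
  rw [← map_mul, IsLocalization.mk'_spec', ← IsScalarTower.algebraMap_apply,
    ← IsScalarTower.algebraMap_apply, h1]

variable [Algebra T B] [IsLocalRing T]

/-- A reduced local ring, integrally closed in an algebra in which nonzerodivisors become units, is
a normal domain. -/
theorem isDomain_and_isIntegrallyClosed [_root_.IsReduced T] [IsNoetherianRing T]
    (hinj : Function.Injective (algebraMap T B))
    (hcl : ∀ x : B, IsIntegral T x → ∃ y, algebraMap T B y = x)
    (hunit : ∀ a ∈ T⁰, IsUnit (algebraMap T B a)) : IsDomain T ∧ IsIntegrallyClosed T := by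
  classical
  have hfin : (minimalPrimes T).Finite := minimalPrimes.finite_of_isNoetherianRing T
  have hzero : ∀ z : T, (∀ p ∈ minimalPrimes T, z ∈ p) → z = 0 := by
    intro z hz
    have h : z ∈ nilradical T := by
      rw [nilradical, ← Ideal.sInf_minimalPrimes, Ideal.mem_sInf]
      exact fun {p} hp => hz p hp
    rwa [nilradical_eq_zero, Ideal.zero_eq_bot, Ideal.mem_bot] at h
  have hsub : (minimalPrimes T).Subsingleton := by
    intro p hp p' hp'
    by_contra hne
    haveI : p.IsPrime := hp.1.1
    let others := hfin.toFinset.erase p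
    have hoth : ∀ P ∈ others, P ∈ minimalPrimes T ∧ P ≠ p := fun P hP =>
      ⟨hfin.mem_toFinset.1 (Finset.mem_of_mem_erase hP), Finset.ne_of_mem_erase hP⟩
    have hp'o : p' ∈ others := Finset.mem_erase.2 ⟨Ne.symm hne, hfin.mem_toFinset.2 hp'⟩
    have hnle : ∀ P ∈ others, ¬ p ≤ P := fun P hP h =>
      (hoth P hP).2 (le_antisymm ((hoth P hP).1.2 hp.1 h) h)
    have hnle' : ∀ P ∈ others, ¬ P ≤ p := fun P hP h =>
      (hoth P hP).2 (le_antisymm h (hp.2 (hoth P hP).1.1 h))
    obtain ⟨a, hap, hao⟩ : ∃ a ∈ p, ∀ P ∈ others, a ∉ P := by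
      by_contra hcon
      push Not at hcon
      have hcov : (p : Set T) ⊆ ⋃ P ∈ (others : Set (Ideal T)), (P : Set T) := fun a ha => by
        obtain ⟨P, hP, haP⟩ := hcon a ha
        exact Set.mem_biUnion hP haP
      obtain ⟨P, hP, hle⟩ := (Ideal.subset_union_prime p p fun P hP _ _ => (hoth P hP).1.1.1).1 hcov
      exact hnle P hP hle
    choose! c hc using fun P hP => SetLike.not_le_iff_exists.1 (hnle' P hP)
    let b := ∏ P ∈ others, c P
    have hbp : b ∉ p := fun h => by
      obtain ⟨P, hP, hPp⟩ := (Ideal.IsPrime.prod_mem_iff).1 h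
      exact (hc P hP).2 hPp
    have hbo : ∀ P ∈ others, b ∈ P := fun P hP =>
      Ideal.mem_of_dvd _ (Finset.dvd_prod_of_mem _ hP) (hc P hP).1
    have hab : a * b = 0 := hzero _ fun P hP => by
      by_cases hPp : P = p
      · exact hPp ▸ p.mul_mem_right b hap
      · exact Ideal.mul_mem_left _ a (hbo P (Finset.mem_erase.2 ⟨hPp, hfin.mem_toFinset.2 hP⟩))
    have hx : a + b ∈ T⁰ := by
      rw [mem_nonZeroDivisors_iff_right]
      intro y hy
      refine hzero y fun P hP => ((hP.1.1).mem_or_mem (show y * (a + b) ∈ P by rw [hy]; exact P.zero_mem)).resolve_right ?_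
      intro h
      by_cases hPp : P = p
      · subst hPp
        exact hbp ((Ideal.add_mem_iff_right _ hap).1 h)
      · have hP' := Finset.mem_erase.2 ⟨hPp, hfin.mem_toFinset.2 hP⟩
        exact hao P hP' ((Ideal.add_mem_iff_left _ (hbo P hP')).1 h)
    obtain ⟨v, hv⟩ := (hunit _ hx).exists_right_inv
    let e := algebraMap T B a * v
    have hab' : algebraMap T B a * algebraMap T B b = 0 := by rw [← map_mul, hab, map_zero]
    rw [map_add] at hv
    have hee : e * e = e := by
      show algebraMap T B a * v * (algebraMap T B a * v) = algebraMap T B a * v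
      linear_combination (algebraMap T B a * v) * hv - v * v * hab'
    obtain ⟨t, ht⟩ := hcl e ⟨Polynomial.X ^ 2 - Polynomial.X,
      Polynomial.monic_X_pow_sub (by rw [Polynomial.degree_X]; norm_num), by simp [sq, hee]⟩
    have ht2 : t * t = t := hinj (by rw [map_mul, ht, hee])
    have hte : t * (a + b) = a := hinj (by
      rw [map_mul, map_add, ht]
      show algebraMap T B a * v * _ = _
      linear_combination algebraMap T B a * hv)
    rcases IsLocalRing.isUnit_or_isUnit_one_sub_self t with h | h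
    · have : t = 1 := h.mul_left_cancel (by rw [ht2, mul_one])
      rw [this, one_mul, add_eq_left] at hte
      exact hbp (hte ▸ p.zero_mem)
    · have : t = 0 := h.mul_left_cancel (by rw [mul_zero, sub_mul, one_mul, ht2, sub_self])
      rw [this, zero_mul] at hte
      exact hao p' hp'o (hte ▸ p'.zero_mem)
  obtain ⟨p, hp⟩ := Ideal.nonempty_minimalPrimes (I := (⊥ : Ideal T)) bot_ne_top
  have hbot : p = ⊥ := eq_bot_iff.2 fun z hz => (Ideal.mem_bot).2 (hzero z fun P hP => hsub hP hp ▸ hz)
  haveI : (⊥ : Ideal T).IsPrime := hbot ▸ hp.1.1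
  haveI : IsDomain T := IsDomain.of_bot_isPrime T
  refine ⟨inferInstance, (isIntegrallyClosed_iff (FractionRing T)).2 fun {x} hx => ?_⟩
  haveI : Nontrivial B := hinj.nontrivial
  let ψ : FractionRing T →ₐ[T] B :=
    { IsLocalization.lift (M := T⁰) (S := FractionRing T) (g := algebraMap T B) fun y => hunit y y.2 with
      commutes' := fun r => IsLocalization.lift_eq _ r }
  obtain ⟨y, hy⟩ := hcl (ψ x) (hx.map ψ)
  exact ⟨y, ψ.toRingHom.injective (by simpa using hy)⟩

/-- The discrete valuation ring criterion. -/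
theorem isDVR_of_dim_one [_root_.IsReduced T] [IsNoetherianRing T] (hdim : ringKrullDim T = 1)
    (hinj : Function.Injective (algebraMap T B))
    (hcl : ∀ x : B, IsIntegral T x → ∃ y, algebraMap T B y = x)
    (hunit : ∀ a ∈ T⁰, IsUnit (algebraMap T B a)) :
    ∃ _ : IsDomain T, IsDiscreteValuationRing T := by
  obtain ⟨h, h'⟩ := isDomain_and_isIntegrallyClosed hinj hcl hunit
  refine ⟨h, ?_⟩
  have hnf : ¬ IsField T := fun hF => by
    rw [ringKrullDim_eq_zero_of_isField hF] at hdim
    exact zero_ne_one hdim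
  haveI : Ring.KrullDimLE 1 T := (Ring.krullDimLE_iff).2 hdim.le
  have hmax : ∀ P : Ideal T, P ≠ ⊥ → P.IsPrime → P.IsMaximal :=
    haveI : (⊥ : Ideal T).IsPrime := Ideal.isPrime_bot
    Ring.krullDimLE_one_iff_of_isPrime_bot.1 inferInstance
  have hiff : IsDiscreteValuationRing T ↔ IsIntegrallyClosed T ∧ ∃! P : Ideal T, P ≠ ⊥ ∧ P.IsPrime :=
    (IsDiscreteValuationRing.TFAE T hnf).out 0 3
  exact hiff.2 ⟨h', IsLocalRing.maximalIdeal T,
    ⟨fun hb => hnf (IsLocalRing.isField_iff_maximalIdeal_eq.2 hb), inferInstance⟩,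
    fun P hP => IsLocalRing.eq_maximalIdeal (hmax P hP.1 hP.2)⟩

end GrothLib.NormDvr9
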