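import Groth.Agent.Lib.NormDvr9.Basic
import Groth.Agent.Lib.NormNagata9.Basic

/-!
# Codimension one points of a relative normalization outside the image
-/

set_option autoImplicit false
set_option linter.style.haveILetI false
set_option backward.isDefEq.respectTransparency false

universe u

open CategoryTheory AlgebraicGeometry TopologicalSpace Opposite
open scoped nonZeroDivisors

namespace GrothLib.NormDvr9

variable {N Y : Scheme.{u}} (ν : Y ⟶ N) {W : N.Opens} (hW : IsAffineOpen W) {V : Y.Opens}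
  (hV : IsCompact (V : Set Y)) (e : V ≤ ν ⁻¹ᵁ W)

include hW hV in
/-- An element avoiding the primes strictly below `q` is, away from the fibre over `q`, invertible. -/
theorem exists_mul_eq (q : Ideal Γ(N, W)) [q.IsPrime]
    (hfib : ∀ y ∈ V, ν y ≠ hW.fromSpec ⟨q, inferInstance⟩) (a : Γ(N, W))
    (ha : ∀ P : Ideal Γ(N, W), P.IsPrime → P ≤ q → P ≠ q → a ∉ P) :
    ∃ s ∉ q, ∃ g : Γ(Y, V), ν.appLE W V e a * g = ν.appLE W V e s := by
  classical
  have key : ∀ y : V, ∃ T : Y.Opens, IsAffineOpen T ∧ y.1 ∈ T ∧ T ≤ V :=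
    fun y => exists_isAffineOpen_mem_and_subset y.2
  choose T hT hyT hTV using key
  obtain ⟨t, ht⟩ := hV.elim_finite_subcover (fun y : V => (T y : Set Y)) (fun y => (T y).2)
    fun y hy => Set.mem_iUnion.2 ⟨⟨y, hy⟩, hyT _⟩
  have hloc : ∀ i : V, ∃ s ∉ q, ∃ c : Γ(Y, T i),
      ν.appLE W (T i) ((hTV i).trans e) a * c = ν.appLE W (T i) ((hTV i).trans e) s := by
    intro i
    let θ := (ν.appLE W (T i) ((hTV i).trans e)).hom
    by_contra hcon
    push Not at hcon
    have hdisj : Disjoint (Ideal.span {θ a} : Set Γ(Y, T i)) (q.primeCompl.map θ.toMonoidHom : Set Γ(Y, T i)) := by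
      rw [Set.disjoint_left]
      rintro _ hz ⟨s, hs, rfl⟩
      obtain ⟨c, hc⟩ := Ideal.mem_span_singleton'.1 hz
      exact hcon s hs c ((mul_comm _ _).trans hc)
    obtain ⟨P, hP, hle, hPd⟩ := Ideal.exists_le_prime_disjoint _ _ hdisj
    have hpq : P.comap θ ≤ q := fun r hr => by
      by_contra h
      exact Set.disjoint_left.1 hPd hr ⟨r, h, rfl⟩
    refine ha (P.comap θ) inferInstance hpq (fun heq => ?_) (hle (Ideal.mem_span_singleton_self _))
    refine hfib ((hT i).fromSpec ⟨P, hP⟩) (hTV i ((hT i).range_fromSpec.le ⟨_, rfl⟩)) ?_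
    rw [← Scheme.Hom.comp_apply, ← IsAffineOpen.SpecMap_appLE_fromSpec ν hW (hT i) ((hTV i).trans e),
      Scheme.Hom.comp_apply]
    exact congrArg hW.fromSpec (PrimeSpectrum.ext heq)
  choose s hs c hc using hloc
  let S : Γ(N, W) := ∏ i ∈ t, s i
  have hS : S ∉ q := fun h => by
    obtain ⟨i, -, hi⟩ := (Ideal.IsPrime.prod_mem_iff).1 h
    exact hs i hi
  let θ : ∀ i : {i // i ∈ t}, Γ(N, W) →+* Γ(Y, T i.1) := fun i => (ν.appLE W (T i.1) ((hTV i.1).trans e)).hom
  have hS' : ∀ i : {i // i ∈ t}, ∃ d : Γ(Y, T i.1), θ i a * d = θ i S := fun i => by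
    obtain ⟨r, hr⟩ : s i.1 ∣ S := Finset.dvd_prod_of_mem _ i.2
    exact ⟨c i.1 * θ i r, by rw [← mul_assoc, hr, map_mul, ← hc i.1]⟩
  choose d hd using hS'
  have hres : ∀ (i : {i // i ∈ t}) (T' : Y.Opens) (h : T' ≤ T i.1) (r : Γ(N, W)),
      Y.presheaf.map (homOfLE h).op (θ i r) = ν.appLE W T' ((h.trans (hTV i.1)).trans e) r := fun i T' h r =>
    ConcreteCategory.congr_hom (ν.appLE_map ((hTV i.1).trans e) (homOfLE h).op) r
  obtain ⟨g, hg, -⟩ := TopCat.Sheaf.existsUnique_gluing' Y.sheaf (fun i : {i // i ∈ t} => T i.1) V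
    (fun i => homOfLE (hTV i.1)) (fun y hy => by
      obtain ⟨z, hz, hyz⟩ := Set.mem_iUnion₂.1 (ht hy)
      exact Opens.mem_iSup.2 ⟨⟨z, hz⟩, hyz⟩)
    (fun i => d i * θ i S) (fun i j => by
      show Y.presheaf.map (homOfLE inf_le_left).op (d i * θ i S) =
        Y.presheaf.map (homOfLE inf_le_right).op (d j * θ j S)
      rw [map_mul, map_mul, hres, hres]
      have h1 := congrArg (Y.presheaf.map (homOfLE (inf_le_left : T i.1 ⊓ T j.1 ≤ _)).op) (hd i)
      have h2 := congrArg (Y.presheaf.map (homOfLE (inf_le_right : T i.1 ⊓ T j.1 ≤ _)).op) (hd j)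
      rw [map_mul, hres, hres] at h1 h2
      conv_lhs => rw [← h2]
      conv_rhs => rw [← h1]
      ring)
  change Γ(Y, V) at g
  refine ⟨S * S, fun h => (Ideal.IsPrime.mem_or_mem ‹_› h).elim hS hS, g, ?_⟩
  refine TopCat.Sheaf.eq_of_locally_eq' Y.sheaf (fun i : {i // i ∈ t} => T i.1) V
    (fun i => homOfLE (hTV i.1)) (fun y hy => by
      obtain ⟨z, hz, hyz⟩ := Set.mem_iUnion₂.1 (ht hy)
      exact Opens.mem_iSup.2 ⟨⟨z, hz⟩, hyz⟩) _ _ fun i => ?_
  show Y.presheaf.map (homOfLE (hTV i.1)).op (ν.appLE W V e a * g) =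
    Y.presheaf.map (homOfLE (hTV i.1)).op (ν.appLE W V e (S * S))
  have hr : ∀ r, Y.presheaf.map (homOfLE (hTV i.1)).op (ν.appLE W V e r) = θ i r :=
    ConcreteCategory.congr_hom (ν.appLE_map e (homOfLE (hTV i.1)).op)
  rw [map_mul, hr, hr, map_mul, show Y.presheaf.map (homOfLE (hTV i.1)).op g = d i * θ i S from hg i,
    ← mul_assoc, hd i]

/-- Points of codimension one of the normalization outside the image have discrete valuation rings. -/
theorem isDVR_stalk {X Y : Scheme.{u}} (f : Y ⟶ X) [LocallyOfFiniteType f] [QuasiCompact f] [QuasiSeparated f]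
    [IsReduced Y] (hX : ∀ U : X.affineOpens, CAlg.IsNagata Γ(X, U))
    (x' : ↥f.normalization) (hdim : ringKrullDim (f.normalization.presheaf.stalk x') = 1)
    (hx' : x' ∉ Set.range f.toNormalization.base) :
    ∃ _ : IsDomain (f.normalization.presheaf.stalk x'),
      IsDiscreteValuationRing (f.normalization.presheaf.stalk x') := by
  haveI := NormNagata9.isFinite_fromNormalization_of_finiteType f hX
  obtain ⟨_, ⟨U, hU : IsAffineOpen U, rfl⟩, hxU, -⟩ := X.isBasis_affineOpens.exists_subset_of_mem_open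
    (Set.mem_univ (f.fromNormalization x')) isOpen_univ
  let W := f.fromNormalization ⁻¹ᵁ U
  have hW : IsAffineOpen W := hU.preimage f.fromNormalization
  have hxW : x' ∈ W := hxU
  have e : f ⁻¹ᵁ U ≤ f.toNormalization ⁻¹ᵁ W := by
    rw [← Scheme.Hom.comp_preimage, f.toNormalization_fromNormalization]
  letI algB := (f.app U).hom.toAlgebra
  letI algR : Algebra Γ(X, U) Γ(f.normalization, W) := (f.fromNormalization.app U).hom.toAlgebra
  let ψ := (f.toNormalization.appLE W (f ⁻¹ᵁ U) e).hom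
  letI algψ : Algebra Γ(f.normalization, W) Γ(Y, f ⁻¹ᵁ U) := ψ.toAlgebra
  have hiso : ∀ r, ((f.normalizationObjIso hU).hom r).1 = ψ r :=
    ConcreteCategory.congr_hom (f.normalizationObjIso_hom_val hU)
  haveI : IsScalarTower Γ(X, U) Γ(f.normalization, W) Γ(Y, f ⁻¹ᵁ U) := .of_algebraMap_eq fun r => by
    show f.app U r = ψ (f.fromNormalization.app U r)
    rw [← hiso, f.fromNormalization_app hU, CommRingCat.comp_apply, Iso.inv_hom_id_apply]
    rfl
  haveI : Algebra.IsIntegral Γ(X, U) Γ(f.normalization, W) := by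
    rw [← algebraMap_isIntegral_iff]
    exact f.fromNormalization.isIntegral_app U hU
  have hinj : Function.Injective ψ := fun r r' h =>
    (f.normalizationObjIso hU).commRingCatIsoToRingEquiv.injective
      (Subtype.ext ((hiso r).trans (h.trans (hiso r').symm)))
  have hcl : ∀ b : Γ(Y, f ⁻¹ᵁ U), IsIntegral Γ(f.normalization, W) b → ∃ r, ψ r = b := fun b hb => by
    refine ⟨(f.normalizationObjIso hU).inv ⟨b, isIntegral_trans (R := Γ(X, U)) b hb⟩, ?_⟩
    rw [← hiso, Iso.inv_hom_id_apply]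
  haveI : IsNoetherianRing Γ(X, U) := (hX ⟨U, hU⟩).1
  haveI : Module.Finite Γ(X, U) Γ(f.normalization, W) := f.fromNormalization.finite_app U hU
  haveI : IsNoetherianRing Γ(f.normalization, W) :=
    Algebra.FiniteType.isNoetherianRing Γ(X, U) Γ(f.normalization, W)
  let q := hW.primeIdealOf ⟨x', hxW⟩
  let S := f.normalization.presheaf.stalk x'
  letI := TopCat.Presheaf.algebra_section_stalk f.normalization.presheaf (⟨x', hxW⟩ : W)
  haveI : IsLocalization.AtPrime S q.asIdeal := hW.isLocalization_stalk ⟨x', hxW⟩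
  haveI : IsNoetherianRing S := IsLocalization.isNoetherianRing q.asIdeal.primeCompl S inferInstance
  let Bm := Localization (Algebra.algebraMapSubmonoid Γ(Y, f ⁻¹ᵁ U) q.asIdeal.primeCompl)
  have hmap : ∀ m : q.asIdeal.primeCompl, IsUnit (algebraMap Γ(f.normalization, W) Bm m) := fun m => by
    rw [IsScalarTower.algebraMap_apply Γ(f.normalization, W) Γ(Y, f ⁻¹ᵁ U) Bm]
    exact IsLocalization.map_units Bm (⟨_, Algebra.mem_algebraMapSubmonoid_of_mem m⟩ :
      Algebra.algebraMapSubmonoid Γ(Y, f ⁻¹ᵁ U) q.asIdeal.primeCompl)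
  letI : Algebra S Bm := (IsLocalization.lift (M := q.asIdeal.primeCompl) (S := S) hmap).toAlgebra
  haveI : IsScalarTower Γ(f.normalization, W) S Bm :=
    .of_algebraMap_eq fun r => (IsLocalization.lift_eq hmap r).symm
  have hinj' : Function.Injective (algebraMap S Bm) := (injective_iff_map_eq_zero _).2 fun z hz => by
    obtain ⟨r, m, rfl⟩ := IsLocalization.exists_mk'_eq q.asIdeal.primeCompl z
    have h1 : algebraMap Γ(Y, f ⁻¹ᵁ U) Bm (ψ r) = 0 := by
      have h2 := congrArg (algebraMap S Bm) (IsLocalization.mk'_spec S r m)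
      rw [map_mul, hz, zero_mul, ← IsScalarTower.algebraMap_apply] at h2
      exact h2.symm
    obtain ⟨⟨_, m', hm', rfl⟩, h3⟩ := (IsLocalization.map_eq_zero_iff
      (Algebra.algebraMapSubmonoid Γ(Y, f ⁻¹ᵁ U) q.asIdeal.primeCompl) Bm _).1 h1
    rw [IsLocalization.mk'_eq_zero_iff]
    exact ⟨⟨m', hm'⟩, hinj (by rw [map_mul, map_zero]; exact h3)⟩
  refine isDVR_of_dim_one (B := Bm) hdim hinj'
    (fun x hx => exists_eq_of_isIntegral_localization (M := q.asIdeal.primeCompl) hcl hx) fun z hz => ?_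
  obtain ⟨a, m, rfl⟩ := IsLocalization.exists_mk'_eq q.asIdeal.primeCompl z
  haveI : Ring.KrullDimLE 1 S := (Ring.krullDimLE_iff).2 hdim.le
  have ha : ∀ P : Ideal Γ(f.normalization, W), P.IsPrime → P ≤ q.asIdeal → P ≠ q.asIdeal → a ∉ P := by
    intro P hP hle hne haP
    have hd : Disjoint (q.asIdeal.primeCompl : Set Γ(f.normalization, W)) (P : Set Γ(f.normalization, W)) :=
      Set.disjoint_left.2 fun r hr hrP => hr (hle hrP)
    have hP' := IsLocalization.isPrime_of_isPrime_disjoint q.asIdeal.primeCompl S P hP hd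
    have hmem : IsLocalization.mk' S a m ∈ Ideal.map (algebraMap Γ(f.normalization, W) S) P := by
      rw [IsLocalization.mk'_mem_map_algebraMap_iff q.asIdeal.primeCompl S]
      exact ⟨1, one_mem _, by rwa [one_mul]⟩
    rcases Ring.krullDimLE_one_iff.1 ‹_› _ hP' with h | h
    · exact Set.disjoint_left.1 (Ideal.disjoint_nonZeroDivisors_of_mem_minimalPrimes h) hmem hz
    · apply hne
      rw [← IsLocalization.comap_map_of_isPrime_disjoint q.asIdeal.primeCompl S hP hd,
        IsLocalRing.eq_maximalIdeal h, IsLocalization.AtPrime.comap_maximalIdeal S q.asIdeal]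
  obtain ⟨s, hs, g, hg⟩ := exists_mul_eq f.toNormalization hW
    (QuasiCompact.isCompact_preimage (f := f) _ U.2 hU.isCompact) e q.asIdeal
    (fun y _ hy => hx' ⟨y, hy.trans (hW.fromSpec_primeIdealOf ⟨x', hxW⟩)⟩) a ha
  have hu : IsUnit (algebraMap Γ(Y, f ⁻¹ᵁ U) Bm (ψ a)) := by
    have h1 := hmap ⟨s, hs⟩
    rw [IsScalarTower.algebraMap_apply _ Γ(Y, f ⁻¹ᵁ U) Bm, show algebraMap Γ(f.normalization, W) Γ(Y, f ⁻¹ᵁ U) s = _ from hg.symm, map_mul] at h1
    exact isUnit_of_mul_isUnit_left h1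
  have h2 := congrArg (algebraMap S Bm) (IsLocalization.mk'_spec S a m)
  rw [map_mul, ← IsScalarTower.algebraMap_apply _ S Bm, ← IsScalarTower.algebraMap_apply _ S Bm,
    IsScalarTower.algebraMap_apply _ Γ(Y, f ⁻¹ᵁ U) Bm a] at h2
  exact isUnit_of_mul_isUnit_left (show IsUnit (_ * _) from h2.symm ▸ hu)

end GrothLib.NormDvr9
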